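import Cfsg.Prelude.Def_GeometricClasses
import Cfsg.Agent.H278.Cov.Defs

/-!
# S2499: vocabulary for the rows of the classical groups of dimension at least 10
-/

set_option autoImplicit false

namespace Cfsg.Agent.H278.Cov

open Cfsg Cfsg.Geo
open scoped MatrixGroups

universe u

/-- the numerical hypotheses on the order `m` of an element of the primitive part of `q ^ k - 1` in dimension `n`
(`S5948`), together with a prime divisor `l` which excludes subfield groups -/
structure Num (q n k m : ℕ) : Prop where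
  ten : 10 ≤ n
  le : k ≤ n
  lt : n < 2 * k
  big : 2 * k + 1 < m
  dvd : m ∣ q ^ k - 1
  prim : ∀ i : ℕ, 1 ≤ i → i < k → Nat.Coprime m (q ^ i - 1)
  sub : ∃ l : ℕ, l.Prime ∧ l ∣ m ∧
    ∀ q₀ r : ℕ, r.Prime → q = q₀ ^ r → ∀ j : ℕ, 1 ≤ j → j ≤ n → ¬ l ∣ q₀ ^ j - 1

variable {ι : Type} [Fintype ι] [DecidableEq ι] {F : Type u} [Field F]

/-- `H` stabilises a proper non-zero subspace -/
def Red (H : Subgroup (GL ι F)) : Prop :=
  ∃ W : Submodule F (ι → F), W ≠ ⊥ ∧ W ≠ ⊤ ∧ H ≤ subspaceStabilizer W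

/-- `H` normalises a field of matrices of prime degree `r` dividing `d` -/
def Ext (d : ℕ) (H : Subgroup (GL ι F)) : Prop :=
  ∃ (r : ℕ) (E : Subalgebra F (Matrix ι ι F)), r.Prime ∧ r ∣ d ∧ IsFieldSubalgebra r E ∧ H ≤ subalgebraNormalizer E

end Cfsg.Agent.H278.Cov
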