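import Cfsg.Agent.H278.Cov.Red
import Cfsg.Agent.H502.Cov.AltOdd
import Cfsg.Agent.H621.Cov.Nine
import Cfsg.Agent.H434.Cov.AltEven
import Cfsg.Agent.H184.Cov.Psl
import Cfsg.Agent.H46.Cov.Main
import Cfsg.Agent.H109.Cov.Main
import Cfsg.Agent.H248.Cov.PSp8
import Cfsg.Agent.H212.CovSp.Row
import Cfsg.Agent.H269.U5.Final
import Cfsg.Agent.H680.Cov.SU6.Main
import Cfsg.Agent.H906.Cov.U62
import Cfsg.Agent.H834.Cov.Su7
import Cfsg.Agent.H834.Cov.Su8
import Cfsg.Agent.H729.CovSU9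
import Cfsg.Agent.H981.Cov.Ten
import Cfsg.Agent.H947.Cv.Psu3
import Cfsg.Agent.H947.Cv.Sz
import Cfsg.Agent.H947.Cv.Ree
import Cfsg.Agent.H781.Cov9.Final
import Cfsg.Agent.H217.Cov7.Final
import Cfsg.Agent.H327.COV.Big
import Cfsg.Agent.H25.Cov.Oodd
import Cfsg.Agent.H25.Cov.Minus14
import Cfsg.Agent.H25.Cov.Plus14
import Cfsg.Agent.H383.Cov.TenTwo
import Cfsg.Agent.H383.Cov.Sixteen
import Cfsg.Agent.H989.Cov.Om12
import Cfsg.Agent.H975.Cov.Main
import Cfsg.Agent.H708.O8.Main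
import Cfsg.Agent.H109.O8.SmallTwo
import Cfsg.Agent.H304.O8.SmallThree
import Cfsg.Agent.H688.Cov.OMinusFinal
import Cfsg.Agent.H212.Cov.Om10
import Cfsg.Agent.H325.Cov.E7F
import Cfsg.Agent.H290.Cov.E8F
import Cfsg.Agent.H290.Cov.TF4F
import Cfsg.Agent.H290.Cov.LyJ4
import Cfsg.Agent.H190.Cov.RowE6
import Cfsg.Agent.H190.Cov.Two.Te6
import Cfsg.Agent.H406.Cov.F4F
import Cfsg.Agent.H351.CovF4.FinalF
import Cfsg.Agent.H983.Cov.Main
import Cfsg.Agent.H983.Cov.Small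
import Cfsg.Agent.H507.Cov.RU
import Cfsg.Agent.H395.GCov.CharP
import Cfsg.Agent.H815.G23.Main
import Cfsg.Agent.H92.TD.Main
import Cfsg.Agent.H325.TD2.Main
import Cfsg.Agent.H257.Cov.Row.J1
import Cfsg.Agent.H257.Cov.Row.M23
import Cfsg.Agent.H257.Cov.Row.M24
import Cfsg.Agent.H257.Cov.Row.Co1
import Cfsg.Agent.H348.Cov.JThree
import Cfsg.Agent.H348.Cov.MTw
import Cfsg.Agent.H921.Cov.MTT
import Cfsg.Agent.H921.Cov.JTwo
import Cfsg.Agent.H455.Cov.M
import Cfsg.Agent.H455.Cov.B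
import Cfsg.Agent.H725.Cov.Th
import Cfsg.Agent.H725.Cov.He
import Cfsg.Agent.H461.Cov.SporHS
import Cfsg.Agent.H461.Cov.SporCo2
import Cfsg.Agent.H560.Cov.Fi22
import Cfsg.Agent.H560.Cov.Co3
import Cfsg.Agent.H153.Cov.Fi23
import Cfsg.Agent.H153.Cov.Fi24
import Cfsg.Agent.H153.Cov.Ru.Main
import Cfsg.Agent.H973.Cov.HN
import Cfsg.Agent.H973.Cov.ON
import Cfsg.Agent.H966.Cov.SporMcL
import Cfsg.Agent.H966.Cov.SporSuz
import Cfsg.Agent.S1942
import Cfsg.Agent.S4319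
import Cfsg.Agent.S5803
import Cfsg.Agent.S5806
import Cfsg.Agent.S5833
import Cfsg.Agent.S5842
import Cfsg.Agent.S5848
import Cfsg.Agent.S5851
import Cfsg.Agent.S5948

/-!
# S2499: all rows together
-/

set_option autoImplicit false

namespace Cfsg.Agent.H278.Cov

open Cfsg Cfsg.Geo Cfsg.Agent.OrdDiv
open Cfsg.Agent.H436 (IsNamed)

/-! ### inputs -/

theorem ppd : H659.CovCore.S5948Stmt.{0} := fun hF n k hn hk g h1 h2 h3 H hg hirr =>
  S5948.result hF n k hn hk g h1 h2 h3 H hg hirr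

theorem r5848 : H383.Cov.Ten.S5848Stmt := fun Q hQ hp H hH hS => S5848.result Q hQ hp H hH hS

theorem r5851 : H212.Cov.Om10.S5851Stmt := fun Q hQ hp H hH hS => S5851.result Q hQ hp H hH hS

theorem r5842 : H981.Cov.S5842Stmt := fun q hF H hH hS => S5842.result q hF H hH hS

theorem kn : H257.El.Known.{0} := fun _ _ _ _ => S0000.result

/-! ### classical groups -/

theorem alt_row {n : ℕ} (hn : 9 ≤ n) : NoTwo ↥(alternatingGroup (Fin n)) := by
  rcases Nat.even_or_odd n with h | h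
  · exact H434.Cov.noTwo_alt_even h (by obtain ⟨k, rfl⟩ := h; omega)
  · rcases Nat.lt_or_ge n 11 with h1 | h1
    · obtain rfl : n = 9 := by obtain ⟨k, rfl⟩ := h; omega
      exact H621.Cov.noTwo_nine
    · exact H502.Cov.noTwo_alt_odd h1 h

theorem psp_row {m : ℕ} {F : Type} [Field F] [Fintype F] (hm : 2 ≤ m) (ho : Odd (Fintype.card F))
    (h2 : m = 2 → 5 ≤ Fintype.card F) (h3 : m = 3 → ¬ 3 ∣ Fintype.card F) : NoTwo (PSp m F) := by
  rcases Nat.lt_or_ge m 5 with h | h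
  · obtain rfl | rfl | rfl : m = 2 ∨ m = 3 ∨ m = 4 := by omega
    · exact H46.Cov.noTwo_psp_two ho (h2 rfl)
    · exact H109.Cov.noTwo_psp3 (fun H hH hS => S5806.result H hH hS) ho (h3 rfl)
    · exact H248.Cov.noTwo_psp_four ho
  · exact H212.CovSp.noTwo_psp10 ppd h ho

theorem psu_row {n q : ℕ} {F : Type} [Field F] [Fintype F] (hF : Fintype.card F = q ^ 2) (hn : 5 ≤ n) :
    NoTwo (PSU n F q) := by
  rcases Nat.lt_or_ge n 10 with h | h
  · obtain rfl | rfl | rfl | rfl | rfl : n = 5 ∨ n = 6 ∨ n = 7 ∨ n = 8 ∨ n = 9 := by omega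
    · exact H269.U5.noTwo_psu5 hF
    · have hq : 2 ≤ q := Cfsg.Agent.LieClassical.HermBasic.two_le hF
      rcases Nat.lt_or_ge 2 q with h3 | h3
      · exact H680.Cov.SU6.noTwo_psu_six hF h3 (fun H hM hS => S5803.result q hF H hM hS)
      · obtain rfl : q = 2 := le_antisymm h3 hq
        exact H906.Cov.noTwo_psu_six_two hF
          (fun H hM hS => S5803.result 2 SporadicA.FieldFour.F4.card_eq H hM hS)
    · exact H834.Cov.noTwo_psu7 hF
    · exact H834.Cov.noTwo_psu8 hF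
    · exact H729.CovSU9.noTwo_psu_nine hF (fun H hH hS => S5833.result q hF H hH hS)
  · exact H981.Cov.noTwo_psu ppd r5842 hF h

theorem oodd_row {m : ℕ} {F : Type} [Field F] [Fintype F] (hm : 3 ≤ m) (ho : Odd (Fintype.card F)) :
    NoTwo (POmega F (quadFormOdd m F)) := by
  rcases Nat.lt_or_ge m 5 with h | h
  · obtain rfl | rfl : m = 3 ∨ m = 4 := by omega
    · rcases Nat.lt_or_ge (Fintype.card F) 5 with h5 | h5
      · refine H217.Cov7.noTwo_three ?_
        have h1 : 1 < Fintype.card F := Fintype.one_lt_card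
        obtain ⟨k, hk⟩ := ho
        omega
      · exact H327.COV.noTwo_big ho h5
    · exact H781.Cov9.noTwo_o9 ho
  · exact H25.Cov.noTwo_oodd ppd h ho

theorem oplus_eight {F : Type} [Field F] [Fintype F] : NoTwo (POmega F (quadFormPlus 4 F)) := by
  refine H708.O8.noTwo_of kn F (fun hF R S hSn hSs hna hC P hP e hL x y hx hy ox oy sep h25 => ?_)
    fun hF R S hSn hSs hna hC P hP e hL x y hx hy ox oy sep h25 => ?_
  · have := hP.simple
    exact H109.O8.small_two hF S hSs hna hC hP e hL hx hy ox oy sep h25 S0000.result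
  · have := hP.simple
    exact H304.O8.small_three hF S hSs hna hC hP e hL hx hy ox oy sep h25 S0000.result

theorem oplus_row {m : ℕ} {F : Type} [Field F] [Fintype F] (hm : 4 ≤ m) : NoTwo (POmega F (quadFormPlus m F)) := by
  rcases Nat.lt_or_ge m 5 with h | h
  · obtain rfl : m = 4 := by omega
    exact oplus_eight
  · by_cases h2 : Fintype.card F = 2 → m = 5 ∨ 9 ≤ m
    · exact H383.Cov.Ten.noTwo_plus_all ppd r5848 h h2
    · push Not at h2
      obtain ⟨hF, h5, h9⟩ := h2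
      obtain rfl | rfl | rfl : m = 6 ∨ m = 7 ∨ m = 8 := by omega
      · exact H989.Cov.noTwo_plus_twelve_two hF
      · exact H25.Cov.noTwo_oplus14 table kn hF
      · exact H383.Cov.Six.noTwo_sixteen ppd table kn hF

theorem ominus_row {m : ℕ} {F : Type} [Field F] [Fintype F] {a b : F} (hm : 4 ≤ m)
    (hab : ∀ z₁ z₂ : F, z₁ ^ 2 + a * z₁ * z₂ + b * z₂ ^ 2 = 0 → z₁ = 0 ∧ z₂ = 0) :
    NoTwo (POmega F (quadFormMinus (m - 1) F a b)) := by
  rcases Nat.lt_or_ge m 5 with h | h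
  · obtain rfl : m = 4 := by omega
    exact H975.Cov.noTwo_ominus_four hab
  · by_cases h2 : Fintype.card F = 2 → 8 ≤ m
    · exact H688.Cov.noTwo_ominus ppd h h2 hab
    · push Not at h2
      obtain ⟨hF, h8⟩ := h2
      obtain rfl | rfl | rfl : m = 5 ∨ m = 6 ∨ m = 7 := by omega
      · exact H212.Cov.Om10.noTwo_ominus_ten_two r5851 hF hab
      · exact H989.Cov.noTwo_minus_twelve_two hF hab
      · exact H25.Cov.noTwo_ominus14 table kn hF hab

theorem clRows : ClRows where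
  alt := alt_row
  psl hn := H184.Cov.noTwo_psl hn
  psp := psp_row
  psu := psu_row
  psu3 hF h4 h5 h3 := H947.Cv.noTwo_psu3 hF h4 h5 h3
  oodd := oodd_row
  oplus := oplus_row
  ominus := ominus_row

/-! ### exceptional groups -/

theorem td4_row {q : ℕ} {T : Type} [Group T] [Finite T] (h : IsNamed (.td4 q) T) : NoTwo T := by
  have hq : IsPrimePow q := h.cond
  rcases Nat.lt_or_ge 2 q with h3 | h3
  · exact H92.TD.noTwo_td4_gt table (fun _ _ _ _ => S0000.result) H563.KG.cycFixSolv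
      (fun A G _ _ _ _ _ h1 h2 => S4319.result (A := A) (G := G) h1 (Or.inl h2))
      (fun G _ _ _ hG p _ hp hd P α h1 h2 => S1942.result hG hp hd P α h1 h2) h3 h
  · obtain rfl : q = 2 := le_antisymm h3 hq.two_le
    exact H325.TD2.noTwo_td4_two table (fun _ _ _ _ => S0000.result) H563.KG.cycFixSolv h

theorem f4_row {q : ℕ} {T : Type} [Group T] [Finite T] (h3 : ¬ 3 ∣ q) (h : IsNamed (.f4 q) T) : NoTwo T := by
  obtain ⟨p, f, hp, hf, rfl⟩ := (isPrimePow_nat_iff _).1 (show IsPrimePow q from h.cond)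
  by_cases h2 : p = 2
  · rw [h2] at h
    exact H351.CovF4.noTwo_f4_even' h rfl
  · have h5 : p ≠ 3 := by
      rintro rfl
      exact h3 (dvd_pow_self 3 hf.ne')
    have h6 : p ≠ 4 := by
      rintro rfl
      revert hp
      norm_num
    have := hp.two_le
    exact H406.Cov.noTwo_f4' h hp (by omega) rfl

theorem g2_row {q : ℕ} {T : Type} [Group T] [Finite T] (ho : Odd q) (h : IsNamed (.g2 q) T) : NoTwo T :=
  H983.Cov.noTwo_g2_of (fun _ _ _ _ hna => H436.exists_named table S0000.result fun h => hna ⟨⟨h⟩⟩) H507.Cov.exRU H395.GCov.charThree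
    H395.GCov.charSix H983.Cov.killG2 H983.Cov.killL2 H983.Cov.killRee (H815.G23.gTwoThree table kn)
    (Nat.odd_iff.1 ho) h

theorem covExc : CovExc where
  g2 := g2_row
  f4 := f4_row
  e6 h := H190.Cov.noTwo_e6 table H563.KG.cycFixSolv (fun _ _ _ _ => S0000.result) h
  e7 h := H325.Cov.noTwo_e7' h
  e8 h := H290.Cov30.noTwo_e8' h
  te6 h := H190.Cov.noTwo_te6 table H563.KG.cycFixSolv (fun _ _ _ _ => S0000.result) h
  td4 := td4_row
  sz h := by
    obtain ⟨F, i1, i2, m, hm, hF, hq, e⟩ := h.real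
    exact H947.Cv.noTwo_sz ⟨F, i1, i2, m, hm, hF.trans hq, e⟩
  ree h := by
    obtain ⟨F, i1, i2, m, hm, hF, hq, e⟩ := h.real
    exact H947.Cv.noTwo_ree ⟨F, i1, i2, m, hm, hF.trans hq, e⟩
  tf4 h := H290.TFk.noTwo_tf4' h

/-! ### sporadic groups -/

theorem covSpor : CovSpor where
  m12 h := H348.Cov.MTw.noTwo_m12 table kn h
  m22 h := H921.Cov.MTT.noTwo_m22 h
  m23 h := H257.Cov.Row.noTwo_m23 table kn h
  m24 h := H257.Cov.Row.noTwo_m24 table kn h
  j1 h := H257.Cov.Row.noTwo_j1 table kn h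
  j2 h := H921.Cov.JA.noTwo_j2 table kn h
  j3 h := H348.Cov.JThree.noTwo_j3 table kn h
  j4 h := H290.CovSpor.noTwo_j4 table kn h
  co1 h := H257.Cov.Row.noTwo_co1 table kn h
  co2 h := H461.Cov.noTwo_co2 table kn h
  co3 h := H560.Cov.Co3.noTwo_co3 table kn h
  mcl h := H966.Cov.McL.noTwo_mcl table kn h
  hs h := H461.Cov.noTwo_hs table kn h
  suz h := H966.Cov.Suz.noTwo_suz table kn h
  he h := H725.Cov.noTwo_he table kn h
  ru h := H153.Cov.Ru.noTwo_ru table kn h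
  on h := H973.Cov.noTwo_on table kn h
  ly h := H290.CovSpor.noTwo_ly table kn h
  fi22 h := H560.Cov.Fi22.noTwo_fi22 table kn h
  fi23 h := H153.Cov.noTwo_fi23 table kn h
  fi24 h := H153.Cov.noTwo_fi24 table kn h
  hn h := H973.Cov.noTwo_hn table kn h
  th h := H725.Cov.noTwo_th table kn h
  b h := H455.Cov.noTwo_b table kn h
  m h := H455.Cov.noTwo_m table kn h

end Cfsg.Agent.H278.Cov
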