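import Cfsg.Agent.H278.Cov.Defs
import Cfsg.Agent.H278.ElFamA
import Cfsg.Agent.H638.G2Iso
import Cfsg.Agent.S0822

/-!
# S2499: the reduction to the rows

`s2499_of` : the statement S2499 from `CovRows` (one row per family of simple groups).
-/

set_option autoImplicit false

namespace Cfsg.Agent.H278.Cov

open Cfsg Cfsg.Agent.OrdDiv Cfsg.Agent.H436

universe u

/-- the rows of the alternating and classical groups -/
structure ClRows : Prop where
  alt : ∀ {n : ℕ}, 9 ≤ n → NoTwo ↥(alternatingGroup (Fin n))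
  psl : ∀ {n : ℕ} {F : Type} [Field F] [Fintype F], 5 ≤ n → NoTwo (Matrix.ProjectiveSpecialLinearGroup (Fin n) F)
  psp : ∀ {m : ℕ} {F : Type} [Field F] [Fintype F], 2 ≤ m → Odd (Fintype.card F) → (m = 2 → 5 ≤ Fintype.card F) →
    (m = 3 → ¬ 3 ∣ Fintype.card F) → NoTwo (PSp m F)
  psu : ∀ {n q : ℕ} {F : Type} [Field F] [Fintype F], Fintype.card F = q ^ 2 → 5 ≤ n → NoTwo (PSU n F q)
  psu3 : ∀ {q : ℕ} {F : Type} [Field F] [Fintype F], Fintype.card F = q ^ 2 → 4 ≤ q → q ≠ 5 → ¬ 3 ∣ q →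
    NoTwo (PSU 3 F q)
  oodd : ∀ {m : ℕ} {F : Type} [Field F] [Fintype F], 3 ≤ m → Odd (Fintype.card F) →
    NoTwo (POmega F (quadFormOdd m F))
  oplus : ∀ {m : ℕ} {F : Type} [Field F] [Fintype F], 4 ≤ m → NoTwo (POmega F (quadFormPlus m F))
  ominus : ∀ {m : ℕ} {F : Type} [Field F] [Fintype F] {a b : F}, 4 ≤ m →
    (∀ z₁ z₂ : F, z₁ ^ 2 + a * z₁ * z₂ + b * z₂ ^ 2 = 0 → z₁ = 0 ∧ z₂ = 0) →
    NoTwo (POmega F (quadFormMinus (m - 1) F a b))

/-- the rows of the exceptional groups -/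
structure CovExc : Prop where
  g2 : ∀ {q : ℕ} {T : Type} [Group T] [Finite T], Odd q → IsNamed (.g2 q) T → NoTwo T
  f4 : ∀ {q : ℕ} {T : Type} [Group T] [Finite T], ¬ 3 ∣ q → IsNamed (.f4 q) T → NoTwo T
  e6 : ∀ {q : ℕ} {T : Type} [Group T] [Finite T], IsNamed (.e6 q) T → NoTwo T
  e7 : ∀ {q : ℕ} {T : Type} [Group T] [Finite T], IsNamed (.e7 q) T → NoTwo T
  e8 : ∀ {q : ℕ} {T : Type} [Group T] [Finite T], IsNamed (.e8 q) T → NoTwo T
  te6 : ∀ {q : ℕ} {T : Type} [Group T] [Finite T], IsNamed (.te6 q) T → NoTwo T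
  td4 : ∀ {q : ℕ} {T : Type} [Group T] [Finite T], IsNamed (.td4 q) T → NoTwo T
  sz : ∀ {q : ℕ} {T : Type} [Group T] [Finite T], IsNamed (.sz q) T → NoTwo T
  ree : ∀ {q : ℕ} {T : Type} [Group T] [Finite T], IsNamed (.ree q) T → NoTwo T
  tf4 : ∀ {q : ℕ} {T : Type} [Group T] [Finite T], IsNamed (.tf4 q) T → NoTwo T

/-- the rows of the sporadic groups -/
structure CovSpor : Prop where
  m12 : ∀ {T : Type} [Group T] [Finite T], Spor.IsoM12 T → NoTwo T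
  m22 : ∀ {T : Type} [Group T] [Finite T], Spor.IsoM22 T → NoTwo T
  m23 : ∀ {T : Type} [Group T] [Finite T], Spor.IsoM23 T → NoTwo T
  m24 : ∀ {T : Type} [Group T] [Finite T], Spor.IsoM24 T → NoTwo T
  j1 : ∀ {T : Type} [Group T] [Finite T], Spor.IsoJ1 T → NoTwo T
  j2 : ∀ {T : Type} [Group T] [Finite T], Spor.IsoJ2 T → NoTwo T
  j3 : ∀ {T : Type} [Group T] [Finite T], Spor.IsoJ3 T → NoTwo T
  j4 : ∀ {T : Type} [Group T] [Finite T], Spor.IsoJ4 T → NoTwo T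
  co1 : ∀ {T : Type} [Group T] [Finite T], Spor.IsoCo1 T → NoTwo T
  co2 : ∀ {T : Type} [Group T] [Finite T], Spor.IsoCo2 T → NoTwo T
  co3 : ∀ {T : Type} [Group T] [Finite T], Spor.IsoCo3 T → NoTwo T
  mcl : ∀ {T : Type} [Group T] [Finite T], Spor.IsoMcL T → NoTwo T
  hs : ∀ {T : Type} [Group T] [Finite T], Spor.IsoHS T → NoTwo T
  suz : ∀ {T : Type} [Group T] [Finite T], Spor.IsoSuz T → NoTwo T
  he : ∀ {T : Type} [Group T] [Finite T], Spor.IsoHe T → NoTwo T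
  ru : ∀ {T : Type} [Group T] [Finite T], Spor.IsoRu T → NoTwo T
  on : ∀ {T : Type} [Group T] [Finite T], Spor.IsoON T → NoTwo T
  ly : ∀ {T : Type} [Group T] [Finite T], Spor.IsoLy T → NoTwo T
  fi22 : ∀ {T : Type} [Group T] [Finite T], Spor.IsoFi22 T → NoTwo T
  fi23 : ∀ {T : Type} [Group T] [Finite T], Spor.IsoFi23 T → NoTwo T
  fi24 : ∀ {T : Type} [Group T] [Finite T], Spor.IsoFi24' T → NoTwo T
  hn : ∀ {T : Type} [Group T] [Finite T], Spor.IsoHN T → NoTwo T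
  th : ∀ {T : Type} [Group T] [Finite T], Spor.IsoTh T → NoTwo T
  b : ∀ {T : Type} [Group T] [Finite T], Spor.IsoB T → NoTwo T
  m : ∀ {T : Type} [Group T] [Finite T], Spor.IsoM T → NoTwo T

/-- the conclusion of S2499 -/
def Listed (G : Type u) [Group G] : Prop :=
  (∃ n : ℕ, (n = 5 ∨ n = 6 ∨ n = 7 ∨ n = 8) ∧ Nonempty (G ≃* alternatingGroup (Fin n))) ∨
    Cfsg.Spor.IsoM11 G ∨
    (∃ (F : Type) (_ : Field F) (_ : Fintype F) (a : ℕ), 2 ≤ a ∧ Fintype.card F = 2 ^ a ∧ Nonempty (G ≃* Cfsg.Lie.G2 F)) ∨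
    (∃ a : ℕ, 1 ≤ a ∧ IsSimpleGroup G ∧ Nat.card G = (3 ^ a) ^ 24 * ((3 ^ a) ^ 12 - 1) * ((3 ^ a) ^ 8 - 1) * ((3 ^ a) ^ 6 - 1) * ((3 ^ a) ^ 2 - 1)) ∨
    Cfsg.IsTits G ∨
    (∃ (F : Type) (_ : Field F) (_ : Fintype F) (n : ℕ), ((n = 2 ∧ 4 ≤ Fintype.card F) ∨ n = 3 ∨ n = 4) ∧ Nonempty (G ≃* Matrix.ProjectiveSpecialLinearGroup (Fin n) F)) ∨
    (∃ (F : Type) (_ : Field F) (_ : Fintype F) (q : ℕ), Fintype.card F = q ^ 2 ∧ ((∃ a : ℕ, 1 ≤ a ∧ q = 3 ^ a) ∨ q = 5) ∧ Nonempty (G ≃* Cfsg.PSU 3 F q)) ∨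
    (∃ (F : Type) (_ : Field F) (_ : Fintype F) (q : ℕ), Fintype.card F = q ^ 2 ∧ Nonempty (G ≃* Cfsg.PSU 4 F q)) ∨
    (∃ (F : Type) (_ : Field F) (_ : Fintype F) (m a : ℕ), 2 ≤ m ∧ 1 ≤ a ∧ Fintype.card F = 2 ^ a ∧ ¬ (m = 2 ∧ a = 1) ∧ Nonempty (G ≃* Cfsg.PSp m F)) ∨
    (∃ (F : Type) (_ : Field F) (_ : Fintype F) (a : ℕ), 1 ≤ a ∧ Fintype.card F = 3 ^ a ∧ Nonempty (G ≃* Cfsg.PSp 3 F))

theorem exists_pow_of_dvd {q p : ℕ} (hq : IsPrimePow q) (hp : p.Prime) (h : p ∣ q) : ∃ a, 1 ≤ a ∧ q = p ^ a := by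
  obtain ⟨l, a, hl, ha, rfl⟩ := (isPrimePow_nat_iff _).1 hq
  have h1 := hp.dvd_of_dvd_pow h
  rw [(Nat.prime_dvd_prime_iff_eq hp hl).1 h1]
  exact ⟨a, ha, rfl⟩

/-- a named simple group is listed or is not covered by two classes of proper subgroups -/
theorem noTwo_or_listed (cl : ClRows) (hr : CovExc) (hsp : CovSpor) {G : Type u} [Group G] [Finite G]
    (hs : IsSimpleGroup G) {T : Type} [Group T] [Finite T] (e : T ≃* G) {g : Grp} (h : IsNamed g T) :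
    NoTwo T ∨ Listed G := by
  obtain ⟨hre, hcond, -, hord⟩ := id h
  cases g with
  | alt n =>
    obtain ⟨f⟩ := hre
    by_cases hn : 9 ≤ n
    · exact Or.inl ((cl.alt hn).congr f.symm)
    · right; left
      have h5 : 5 ≤ n := hcond
      exact ⟨n, by omega, ⟨e.symm.trans f⟩⟩
  | psl n q =>
    obtain ⟨F, i1, i2, rfl, ⟨f⟩⟩ := hre
    by_cases hn : 5 ≤ n
    · exact Or.inl ((cl.psl hn).congr f.symm)
    · right
      obtain ⟨h1, h2, -⟩ := hcond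
      refine Or.inr (Or.inr (Or.inr (Or.inr (Or.inr (Or.inl ⟨F, i1, i2, n, ?_, ⟨e.symm.trans f⟩⟩)))))
      have : n = 2 ∨ n = 3 ∨ n = 4 := by omega
      rcases this with h | h | h
      · exact Or.inl ⟨h, h2 h⟩
      · exact Or.inr (Or.inl h)
      · exact Or.inr (Or.inr h)
  | psp m q =>
    obtain ⟨F, i1, i2, rfl, ⟨f⟩⟩ := hre
    obtain ⟨h1, h2, h3⟩ := hcond
    by_cases hev : 2 ∣ Fintype.card F
    · right
      obtain ⟨a, ha, haq⟩ := exists_pow_of_dvd h3 Nat.prime_two hev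
      refine Or.inr (Or.inr (Or.inr (Or.inr (Or.inr (Or.inr (Or.inr (Or.inr (Or.inl
        ⟨F, i1, i2, m, a, h1, ha, haq, ?_, ⟨e.symm.trans f⟩⟩))))))))
      rintro ⟨rfl, rfl⟩
      have := h2 rfl
      omega
    · have hodd : Odd (Fintype.card F) := by
        rw [← Nat.not_even_iff_odd, even_iff_two_dvd]; exact hev
      by_cases h4 : m = 2 ∧ Fintype.card F = 3
      · right
        obtain ⟨rfl, h4⟩ := h4
        obtain ⟨K, j1, j2, hK, -⟩ : ∃ (K : Type) (_ : Field K) (_ : Fintype K), Fintype.card K = 4 ∧ True := by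
          have : Fact (Nat.Prime 2) := ⟨Nat.prime_two⟩
          letI : Fintype (GaloisField 2 2) := Fintype.ofFinite _
          refine ⟨GaloisField 2 2, inferInstance, inferInstance, ?_, trivial⟩
          rw [← Nat.card_eq_fintype_card, GaloisField.card 2 2 (by norm_num)]
          norm_num
        obtain ⟨f'⟩ := S0822.result (F := K) (K := F) hK h4
        exact Or.inr (Or.inr (Or.inr (Or.inr (Or.inr (Or.inr (Or.inr (Or.inl
          ⟨K, j1, j2, 2, by rw [hK]; norm_num, ⟨(e.symm.trans f).trans f'.symm⟩⟩)))))))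
      · by_cases h5 : m = 3 ∧ 3 ∣ Fintype.card F
        · right
          obtain ⟨rfl, h5⟩ := h5
          obtain ⟨a, ha, haq⟩ := exists_pow_of_dvd h3 Nat.prime_three h5
          exact Or.inr (Or.inr (Or.inr (Or.inr (Or.inr (Or.inr (Or.inr (Or.inr (Or.inr
            ⟨F, i1, i2, a, ha, haq, ⟨e.symm.trans f⟩⟩))))))))
        · left
          refine (cl.psp h1 hodd (fun hm => ?_) (fun hm h => h5 ⟨hm, h⟩)).congr f.symm
          have h6 := h2 hm
          have h7 : Fintype.card F ≠ 3 := fun h => h4 ⟨hm, h⟩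
          obtain ⟨k, hk⟩ := hodd
          omega
  | psu n q =>
    obtain ⟨F, i1, i2, hF, ⟨f⟩⟩ := hre
    obtain ⟨h1, h2, h3⟩ := hcond
    by_cases hn : 5 ≤ n
    · exact Or.inl ((cl.psu hF hn).congr f.symm)
    · have : n = 3 ∨ n = 4 := by omega
      rcases this with rfl | rfl
      · by_cases h4 : q = 5
        · right
          exact Or.inr (Or.inr (Or.inr (Or.inr (Or.inr (Or.inr (Or.inl
            ⟨F, i1, i2, q, hF, Or.inr h4, ⟨e.symm.trans f⟩⟩))))))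
        · by_cases h5 : 3 ∣ q
          · right
            obtain ⟨a, ha, haq⟩ := exists_pow_of_dvd h3 Nat.prime_three h5
            exact Or.inr (Or.inr (Or.inr (Or.inr (Or.inr (Or.inr (Or.inl
              ⟨F, i1, i2, q, hF, Or.inl ⟨a, ha, haq⟩, ⟨e.symm.trans f⟩⟩))))))
          · left
            have h6 : 2 ≤ q := h3.two_le
            have h7 : q ≠ 2 := fun h => h2 ⟨rfl, h⟩
            have h8 : q ≠ 3 := fun h => h5 (by rw [h])
            exact (cl.psu3 hF (by omega) h4 h5).congr f.symm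
      · right
        exact Or.inr (Or.inr (Or.inr (Or.inr (Or.inr (Or.inr (Or.inr (Or.inl
          ⟨F, i1, i2, q, hF, ⟨e.symm.trans f⟩⟩)))))))
  | oodd m q =>
    obtain ⟨F, i1, i2, rfl, ⟨f⟩⟩ := hre
    exact Or.inl ((cl.oodd hcond.1 hcond.2.1).congr f.symm)
  | oplus m q =>
    obtain ⟨F, i1, i2, rfl, ⟨f⟩⟩ := hre
    exact Or.inl ((cl.oplus hcond.1).congr f.symm)
  | ominus m q =>
    obtain ⟨F, i1, i2, a, b, rfl, hab, ⟨f⟩⟩ := hre
    exact Or.inl ((cl.ominus hcond.1 hab).congr f.symm)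
  | g2 q =>
    by_cases hev : 2 ∣ q
    · right
      obtain ⟨F, i1, i2, rfl, ⟨f⟩⟩ := hre
      obtain ⟨a, ha, haq⟩ := exists_pow_of_dvd hcond.2 Nat.prime_two hev
      obtain ⟨f'⟩ := H638.G2Iso.equiv (F := F)
      have h3 := hcond.1
      have h4 : a ≠ 1 := by
        rintro rfl
        omega
      exact Or.inr (Or.inr (Or.inl ⟨F, i1, i2, a, by omega, haq, ⟨(e.symm.trans f).trans f'.symm⟩⟩))
    · left
      refine hr.g2 ?_ h
      rw [← Nat.not_even_iff_odd, even_iff_two_dvd]; exact hev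
  | f4 q =>
    by_cases h3 : 3 ∣ q
    · right
      obtain ⟨a, ha, rfl⟩ := exists_pow_of_dvd hcond Nat.prime_three h3
      refine Or.inr (Or.inr (Or.inr (Or.inl ⟨a, ha, hs, ?_⟩)))
      rw [← Nat.card_congr e.toEquiv, hord]
      have h4 : ordN (.f4 (3 ^ a)) = (3 ^ a) ^ 24 * (((3 ^ a) ^ 2 - 1) * ((3 ^ a) ^ 6 - 1) * ((3 ^ a) ^ 8 - 1) *
          ((3 ^ a) ^ 12 - 1)) / 1 := rfl
      rw [h4, Nat.div_one]
      ring
    · exact Or.inl (hr.f4 h3 h)
  | e6 q => exact Or.inl (hr.e6 h)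
  | e7 q => exact Or.inl (hr.e7 h)
  | e8 q => exact Or.inl (hr.e8 h)
  | te6 q => exact Or.inl (hr.te6 h)
  | td4 q => exact Or.inl (hr.td4 h)
  | sz q => exact Or.inl (hr.sz h)
  | ree q => exact Or.inl (hr.ree h)
  | tf4 q => exact Or.inl (hr.tf4 h)
  | tits =>
    right
    refine Or.inr (Or.inr (Or.inr (Or.inr (Or.inl ⟨hs, ?_⟩))))
    rw [← Nat.card_congr e.toEquiv, hord]
    decide
  | m11 =>
    right
    obtain ⟨f⟩ := hre
    exact Or.inr (Or.inl ⟨e.symm.trans f⟩)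
  | m12 => exact Or.inl (hsp.m12 hre)
  | m22 => exact Or.inl (hsp.m22 hre)
  | m23 => exact Or.inl (hsp.m23 hre)
  | m24 => exact Or.inl (hsp.m24 hre)
  | j1 => exact Or.inl (hsp.j1 hre)
  | j2 => exact Or.inl (hsp.j2 hre)
  | j3 => exact Or.inl (hsp.j3 hre)
  | j4 => exact Or.inl (hsp.j4 hre)
  | co1 => exact Or.inl (hsp.co1 hre)
  | co2 => exact Or.inl (hsp.co2 hre)
  | co3 => exact Or.inl (hsp.co3 hre)
  | mcl => exact Or.inl (hsp.mcl hre)
  | hs => exact Or.inl (hsp.hs hre)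
  | suz => exact Or.inl (hsp.suz hre)
  | he => exact Or.inl (hsp.he hre)
  | ru => exact Or.inl (hsp.ru hre)
  | on => exact Or.inl (hsp.on hre)
  | ly => exact Or.inl (hsp.ly hre)
  | fi22 => exact Or.inl (hsp.fi22 hre)
  | fi23 => exact Or.inl (hsp.fi23 hre)
  | fi24 => exact Or.inl (hsp.fi24 hre)
  | hn => exact Or.inl (hsp.hn hre)
  | th => exact Or.inl (hsp.th hre)
  | b => exact Or.inl (hsp.b hre)
  | m => exact Or.inl (hsp.m hre)

/-- **S2499 from the rows.** -/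
theorem s2499_of (tab : OrderTable.{0}) (hK : ∀ (X : Type) [Group X] [Finite X] [IsSimpleGroup X],
    Cfsg.IsKnownSimple' X) (cl : ClRows) (hr : CovExc) (hsp : CovSpor) {G : Type u} [Group G] [Finite G]
    (hs : IsSimpleGroup G) (hna : ∃ a b : G, a * b ≠ b * a) (H K : Subgroup G) (hH : H ≠ ⊤) (hK' : K ≠ ⊤)
    (hcov : ∀ g : G, ∃ x : G, x * g * x⁻¹ ∈ H ∨ x * g * x⁻¹ ∈ K) : Listed G := by
  let e : Shrink.{0} G ≃* G := (Shrink.mulEquiv : Shrink.{0} G ≃* G)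
  have hfin : Finite (Shrink.{0} G) := Finite.of_equiv G e.symm.toEquiv
  have hs' : IsSimpleGroup (Shrink.{0} G) := e.isSimpleGroup
  have hna' : ¬ IsMulCommutative (Shrink.{0} G) := by
    intro hcomm
    obtain ⟨a, b, hab⟩ := hna
    apply hab
    apply e.symm.injective
    rw [map_mul, map_mul]
    exact hcomm.is_comm.comm _ _
  obtain ⟨g, hg⟩ := H278.El.Asm.named_of_simple tab hK hna'
  rcases noTwo_or_listed cl hr hsp hs e hg with h | h
  · exfalso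
    obtain ⟨x, h1, h2⟩ := (h.congr e) H K hH hK'
    obtain ⟨y, h3 | h3⟩ := hcov x
    · exact h1 y h3
    · exact h2 y h3
  · exact h

end Cfsg.Agent.H278.Cov
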